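import Groth.Agent.GrpSch.K404.UnitsAx
import Groth.Agent.AlgGrp.K404.CobDS
import Groth.Agent.AlgGrp.K404.Desc
import Groth.Agent.Sga7.H109.Struct
import Groth.Agent.Sga7.H301.NoGa

/-!
# Connected commutative groups of unipotent rank zero are semi-abelian (node (3.0) of the plan of S14306)
-/

set_option autoImplicit false
universe u
open CategoryTheory CategoryTheory.Limits MonoidalCategory CartesianMonoidalCategory MonObj GrpObj AlgebraicGeometry

namespace K404.MB

open K270.MB Groth.Agent.Sga3B.DSPts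

section ds

variable {S : Scheme.{u}} {r : ℕ}

/-- the `j`-th coordinate of a point of a split torus, as a unit -/
noncomputable def crd {T : Over S} (x : T ⟶ Red.DS S (Fin r → ℤ)) (j : Fin r) : U T :=
  Units.map (dsChar x) (toUnits (Multiplicative.ofAdd (Pi.single j (1 : ℤ))))

theorem val_crd {T : Over S} (x : T ⟶ Red.DS S (Fin r → ℤ)) (j : Fin r) :
    (crd x j : Γ(T.left, ⊤)) = dsChar x (Multiplicative.ofAdd (Pi.single j (1 : ℤ))) := rfl

theorem ures_crd {T T' : Over S} (g : T' ⟶ T) (x : T ⟶ Red.DS S (Fin r → ℤ)) (j : Fin r) :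
    ures g (crd x j) = crd (g ≫ x) j := by
  apply Units.ext
  rw [val_crd, dsChar_comp]
  rfl

theorem crd_mul {T : Over S} (x y : T ⟶ Red.DS S (Fin r → ℤ)) (j : Fin r) :
    crd (x * y) j = crd x j * crd y j := by
  apply Units.ext
  rw [Units.val_mul, val_crd, val_crd, val_crd, dsChar_mul, MonoidHom.mul_apply]

/-- the universal characters -/
noncomputable def univ (S : Scheme.{u}) (r : ℕ) (j : Fin r) : U (Red.DS S (Fin r → ℤ)) := crd (𝟙 _) j

theorem ures_univ {T : Over S} (x : T ⟶ Red.DS S (Fin r → ℤ)) (j : Fin r) : ures x (univ S r j) = crd x j := by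
  rw [univ, ures_crd, Category.comp_id]

theorem zhom_ext {A : Type*} [Monoid A] {f g : Multiplicative ℤ →* A}
    (h : f (Multiplicative.ofAdd 1) = g (Multiplicative.ofAdd 1)) : f = g := by
  exact MonoidHom.ext_mint h

theorem isGmPow_ds : IsGmPow r (Red.DS S (Fin r → ℤ)) (univ S r) where
  mul {T} x y j := by
    rw [ures_univ, ures_univ, ures_univ, crd_mul]
  bij {T} v := by
    refine ⟨dsEquiv T (Fin r → ℤ) (K404.CobDS.chr fun i =>
      (Units.coeHom _).comp (zpowersHom (Γ(T.left, ⊤)ˣ) (v i))), ?_, ?_⟩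
    · intro j
      rw [ures_univ]
      apply Units.ext
      rw [val_crd, dsChar_dsEquiv]
      have h := congrArg (fun f => f (Multiplicative.ofAdd (1 : ℤ))) (K404.CobDS.chr_single (fun i =>
        (Units.coeHom Γ(T.left, ⊤)).comp (zpowersHom (Γ(T.left, ⊤)ˣ) (v i))) j)
      refine Eq.trans h ?_
      simp
    · intro y hy
      apply (dsEquiv T (Fin r → ℤ)).symm.injective
      rw [MulEquiv.symm_apply_apply]
      apply K404.CobDS.chr_ext
      intro i
      rw [K404.CobDS.chr_single]
      apply zhom_ext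
      have h := congrArg Units.val (hy i)
      rw [ures_univ, val_crd] at h
      refine Eq.trans h ?_
      simp

end ds

/-- Node (3.0). -/
theorem nodeSemiAb : K270.MB.NodeSemiAb.{u} := by
  intro k _ _ G _ _ hs hsep hqc hc hG
  have hNo : Groth.Agent.Sga7.H109.Basic.NoGa G := by
    have h := Groth.Agent.Sga7.H301.PGrp.NoGa.of_bc (Red.geomPt (S := Spec (CommRingCat.of k)) (IsLocalRing.closedPoint k))
      (X := G) (gX := inferInstance) (hG (IsLocalRing.closedPoint k))
    exact h
  obtain ⟨r, i, Q, _, q, h1, h2, h3, h4, h5, h6, h7, h8, h9⟩ := Groth.Agent.Sga7.H109.Struct.exists_semiabelian G hNo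
  refine ⟨r, Red.DS (Spec (CommRingCat.of k)) (Fin r → ℤ), Q, inferInstance, inferInstance, univ _ r, i, q,
    ⟨h1, h2⟩, h3, isGmPow_ds, ?_, h5, h4, h7, ?_⟩
  · intro T' x
    constructor
    · rintro ⟨y, rfl⟩
      exact K404.Desc.ker_comp h6 y
    · intro hx
      exact K404.Desc.exists_lift_ker h6 x hx
  · let _ : GrpObj (Over.mk Q.hom) := inferInstanceAs (GrpObj Q)
    have hi : GeometricallyIrreducible Q.hom :=
      Groth.Agent.Sga3C.GrpIrr.geometricallyIrreducible_of_connectedSpace Q.hom
    exact Groth.Agent.Flat2B.SmoothGeom.geometricallyIntegral_of_smooth Q.hom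

end K404.MB
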