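import Groth.Agent.GrpSch.K270.MB.Shape
import Groth.Agent.S8709
import Groth.Prelude.Def_GmPts
import Groth.Agent.Flat2B.SmoothGeom
import Groth.Agent.Sga3C.GrpIrr

/-!
# Invertible functions on `G × G` which are `1` on both axes (node (3.2) of the plan of S14306)
-/

set_option autoImplicit false
universe u
open CategoryTheory CategoryTheory.Limits MonoidalCategory CartesianMonoidalCategory MonObj GrpObj AlgebraicGeometry

namespace K404.MB

open K270.MB

theorem one_eq_toUnit {S : Scheme.{u}} (T G : Over S) [GrpObj G] : (1 : T ⟶ G) = toUnit T ≫ η[G] := Hom.one_def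

theorem ures_unitOfPt {S : Scheme.{u}} {T T' : Over S} (g : T' ⟶ T) (t : T ⟶ Red.Gm S) :
    ures g (GmPts.unitOfPt t) = GmPts.unitOfPt (g ≫ t) := by
  rw [GmPts.unitOfPt_comp]
  rfl

theorem geometricallyConnected_of_integral {X Y : Scheme.{u}} (f : X ⟶ Y) [GeometricallyIntegral f] :
    GeometricallyConnected f := ⟨fun K _ y Z a b h => by
  have := GeometricallyIntegral.geometrically_isIntegral (f := f) y a b h
  infer_instance⟩

/-- Node (3.2). -/
theorem nodeUnits : K270.MB.NodeUnits.{u} := by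
  intro k _ _ G _ hs hsep hqc hc v h1 h2
  let _ : GrpObj (Over.mk G.hom) := inferInstanceAs (GrpObj G)
  have hi : GeometricallyIrreducible G.hom := Groth.Agent.Sga3C.GrpIrr.geometricallyIrreducible_of_connectedSpace G.hom
  have hgi : GeometricallyIntegral G.hom := Groth.Agent.Flat2B.SmoothGeom.geometricallyIntegral_of_smooth G.hom
  have hgr : GeometricallyReduced G.hom := inferInstance
  have hgc : GeometricallyConnected G.hom := geometricallyConnected_of_integral G.hom
  have key : GmPts.ptOfUnit v = 1 := by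
    refine Groth.Agent.S8709.result k G G η[G] η[G] (GmPts.ptOfUnit v) ?_ ?_
    · rw [← GmPts.ptOfUnit_unitOfPt (_ ≫ _), ← ures_unitOfPt, GmPts.unitOfPt_ptOfUnit, ← one_eq_toUnit, h2,
        ← GmPts.unitOfPt_one, GmPts.ptOfUnit_unitOfPt]
    · rw [← GmPts.ptOfUnit_unitOfPt (_ ≫ _), ← ures_unitOfPt, GmPts.unitOfPt_ptOfUnit, ← one_eq_toUnit, h1,
        ← GmPts.unitOfPt_one, GmPts.ptOfUnit_unitOfPt]
  rw [← GmPts.unitOfPt_ptOfUnit v, key, GmPts.unitOfPt_one]

end K404.MB
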